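import Mathlib.Algebra.Category.ModuleCat.Colimits
import Mathlib.Algebra.Category.ModuleCat.Biproducts
import Mathlib.Algebra.Category.ModuleCat.Abelian
import Mathlib.Algebra.Module.FinitePresentation
import Mathlib.CategoryTheory.ObjectProperty.ColimitsOfShape
import Mathlib.CategoryTheory.ObjectProperty.FullSubcategory
import Mathlib.CategoryTheory.Preadditive.Basic
import Mathlib.CategoryTheory.Limits.FullSubcategory
import Mathlib.Data.Finite.Sigma

/-!
# Finitely presented modules: colimits of finite shape, presentations
-/

set_option autoImplicit false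
universe u' v' u w v
open CategoryTheory CategoryTheory.Limits

namespace Groth.Agent.FpMod.Basic

variable (A : Type u) [CommRing A]

/-- Finitely presented modules, as a property of objects of `ModuleCat A`. -/
abbrev fp : ObjectProperty (ModuleCat.{u} A) := fun M => Module.FinitePresentation A M

/-- The category of finitely presented modules. -/
abbrev FP : Type (u + 1) := ObjectProperty.FullSubcategory (fp A)

instance : (fp A).IsClosedUnderIsomorphisms where
  of_iso e h := by
    have := h
    exact Module.finitePresentation_of_surjective e.hom.hom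
      (ModuleCat.epi_iff_surjective _ |>.1 inferInstance)
      (by rw [LinearMap.ker_eq_bot.2 ((ModuleCat.mono_iff_injective e.hom).1 inferInstance)]
          exact Submodule.fg_bot)

variable {A}

/-- A product of finitely many finitely presented modules is finitely presented. -/
theorem finitePresentation_pi {ι : Type w} [Finite ι] (M : ι → Type u) [∀ i, AddCommGroup (M i)]
    [∀ i, Module A (M i)] (hM : ∀ i, Module.FinitePresentation A (M i)) :
    Module.FinitePresentation A (∀ i, M i) := by
  classical
  have := Fintype.ofFinite ι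
  have h1 : ∀ i, ∃ (n : ℕ) (f : (Fin n → A) →ₗ[A] M i), Function.Surjective f :=
    fun i => Module.Finite.exists_fin' A (M i)
  choose n f hf using h1
  let l : (∀ i, Fin (n i) → A) →ₗ[A] (∀ i, M i) := LinearMap.pi fun i => f i ∘ₗ LinearMap.proj i
  have : Module.Finite A (∀ i, Fin (n i) → A) := inferInstance
  have : Module.FinitePresentation A (∀ i, Fin (n i) → A) :=
    Module.finitePresentation_of_projective _ _
  refine Module.finitePresentation_of_surjective l
    (fun x => ⟨fun i => (hf i (x i)).choose, funext fun i => (hf i (x i)).choose_spec⟩) ?_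
  have hk : LinearMap.ker l =
      ⨆ i, (LinearMap.ker (f i)).map (LinearMap.single A (fun i => Fin (n i) → A) i) := by
    refine le_antisymm (fun x hx => ?_) (iSup_le fun i => ?_)
    · rw [← Finset.univ_sum_single x]
      exact Submodule.sum_mem _ fun i _ => Submodule.mem_iSup_of_mem i
        ⟨x i, congrFun hx i, rfl⟩
    · rintro _ ⟨y, hy, rfl⟩
      refine funext fun j => ?_
      rcases eq_or_ne j i with rfl | h
      · simpa [l] using hy
      · simp [l, h]
  rw [hk]
  exact Submodule.fg_iSup _ fun i => (Module.FinitePresentation.fg_ker (f i) (hf i)).map _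

section Colimit

variable {J : Type w} [Category.{v} J] [Finite J] {K : J ⥤ ModuleCat.{u} A}

open scoped Classical in
/-- The map from the product of a finite diagram to the point of a cocone. -/
noncomputable def total (c : Cocone K) : (∀ j, K.obj j) →ₗ[A] c.pt :=
  haveI := Fintype.ofFinite J
  ∑ j, (c.ι.app j).hom ∘ₗ LinearMap.proj j

open scoped Classical in
theorem total_single (c : Cocone K) (j : J) (x : K.obj j) :
    total c (Pi.single j x) = (c.ι.app j).hom x := by
  haveI := Fintype.ofFinite J
  rw [total, LinearMap.sum_apply, Finset.sum_eq_single j]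
  · simp
  · intro i _ hi
    simp [hi]
  · simp

variable (K) in
open scoped Classical in
/-- The relations of a finite diagram in the product. -/
noncomputable def rels : Submodule A (∀ j, K.obj j) :=
  ⨆ q : (Σ i : J, Σ j : J, (i ⟶ j)), LinearMap.range
    ((LinearMap.single A (fun j => (K.obj j : Type u)) q.2.1) ∘ₗ (K.map q.2.2).hom -
      LinearMap.single A (fun j => (K.obj j : Type u)) q.1)

variable {c : Cocone K} (hc : IsColimit c)
include hc

theorem total_surjective : Function.Surjective (total c) := by
  classical
  rw [← LinearMap.range_eq_top]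
  have h : ModuleCat.ofHom (LinearMap.range (total c)).mkQ =
      (0 : c.pt ⟶ ModuleCat.of A (c.pt ⧸ LinearMap.range (total c))) := by
    refine hc.hom_ext fun j => ?_
    ext x
    exact (Submodule.Quotient.mk_eq_zero _).2 ⟨Pi.single j x, total_single c j x⟩
  rw [← Submodule.ker_mkQ (LinearMap.range (total c))]
  exact LinearMap.ker_eq_top.2 (congrArg ModuleCat.Hom.hom h)

theorem ker_total : LinearMap.ker (total c) = rels K := by
  classical
  refine le_antisymm ?_ (iSup_le ?_)
  · haveI : Small.{u} ((∀ j, K.obj j) ⧸ rels K) := small_of_surjective (Submodule.mkQ_surjective _)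
    let E := (Shrink.linearEquiv.{u} A ((∀ j, K.obj j) ⧸ rels K)).symm
    let s : Cocone K :=
      { pt := ModuleCat.of A (Shrink.{u} ((∀ j, K.obj j) ⧸ rels K))
        ι :=
          { app := fun j => ModuleCat.ofHom
              (E.toLinearMap ∘ₗ (rels K).mkQ ∘ₗ LinearMap.single A (fun j => (K.obj j : Type u)) j)
            naturality := fun i j f => by
              ext x
              refine congrArg E ((Submodule.Quotient.eq _).2 ?_)
              exact Submodule.mem_iSup_of_mem ⟨i, j, f⟩ ⟨x, rfl⟩ } }
    have h : (hc.desc s).hom ∘ₗ total c = E.toLinearMap ∘ₗ (rels K).mkQ := by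
      haveI := Fintype.ofFinite J
      refine LinearMap.pi_ext fun j x => ?_
      rw [LinearMap.comp_apply, total_single]
      exact LinearMap.congr_fun (congrArg ModuleCat.Hom.hom (hc.fac s j)) x
    calc LinearMap.ker (total c) ≤ LinearMap.ker ((hc.desc s).hom ∘ₗ total c) :=
          LinearMap.ker_le_ker_comp _ _
      _ = rels K := by rw [h, LinearEquiv.ker_comp, Submodule.ker_mkQ]
  · rintro ⟨i, j, f⟩ _ ⟨x, rfl⟩
    simp only [LinearMap.mem_ker, LinearMap.sub_apply, LinearMap.comp_apply, map_sub,
      LinearMap.coe_single, total_single, sub_eq_zero]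
    exact LinearMap.congr_fun (congrArg ModuleCat.Hom.hom (c.w f)) x

/-- Linear maps out of a finite colimit, to a module in any universe. -/
theorem existsUnique_desc {M : Type v'} [AddCommGroup M] [Module A M]
    (g : ∀ j, K.obj j →ₗ[A] M) (hg : ∀ {i j : J} (f : i ⟶ j), g j ∘ₗ (K.map f).hom = g i) :
    ∃! h : c.pt →ₗ[A] M, ∀ j, h ∘ₗ (c.ι.app j).hom = g j := by
  classical
  haveI := Fintype.ofFinite J
  let G : (∀ j, K.obj j) →ₗ[A] M := ∑ j, g j ∘ₗ LinearMap.proj j
  have hG : ∀ j (x : K.obj j), G (Pi.single j x) = g j x := fun j x => by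
    simp only [G, LinearMap.sum_apply]
    rw [Finset.sum_eq_single j] <;> simp +contextual
  have hle : LinearMap.ker (total c) ≤ LinearMap.ker G := by
    rw [ker_total hc]
    refine iSup_le ?_
    rintro ⟨i, j, f⟩ _ ⟨x, rfl⟩
    simp only [LinearMap.mem_ker, LinearMap.sub_apply, LinearMap.comp_apply, map_sub,
      LinearMap.coe_single, hG, sub_eq_zero]
    exact LinearMap.congr_fun (hg f) x
  let e := (total c).quotKerEquivOfSurjective (total_surjective hc)
  refine ⟨(LinearMap.ker (total c)).liftQ G hle ∘ₗ e.symm.toLinearMap, fun j => ?_, fun h hh => ?_⟩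
  · ext x
    have h1 : e.symm ((c.ι.app j).hom x) = Submodule.Quotient.mk (Pi.single j x) := by
      rw [LinearEquiv.symm_apply_eq, ← total_single c j x]
      rfl
    simp only [LinearMap.comp_apply, LinearEquiv.coe_toLinearMap, h1, Submodule.liftQ_apply, hG]
  · ext y
    obtain ⟨y, rfl⟩ := total_surjective hc y
    have h1 : h ∘ₗ total c = G := LinearMap.pi_ext fun j x => by
      rw [LinearMap.comp_apply, total_single, hG, ← hh j]; rfl
    have h2 : e.symm (total c y) = Submodule.Quotient.mk y := by
      rw [LinearEquiv.symm_apply_eq]; rfl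
    simp only [LinearMap.comp_apply, LinearEquiv.coe_toLinearMap, h2, Submodule.liftQ_apply]
    exact LinearMap.congr_fun h1 y

/-- A finite colimit of finitely presented modules is finitely presented. -/
theorem finitePresentation_colimit [∀ i j : J, Finite (i ⟶ j)]
    (hK : ∀ j, Module.FinitePresentation A (K.obj j)) : Module.FinitePresentation A c.pt := by
  classical
  have := finitePresentation_pi (fun j => (K.obj j : Type u)) hK
  refine Module.finitePresentation_of_surjective (total c) (total_surjective hc) ?_
  rw [ker_total hc]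
  haveI : ∀ i : J, Finite (Σ j : J, (i ⟶ j)) := fun i => inferInstance
  haveI : Finite (Σ i : J, Σ j : J, (i ⟶ j)) := inferInstance
  haveI : ∀ j, Module.Finite A (K.obj j) := fun j => by have := hK j; infer_instance
  exact Submodule.fg_iSup _ fun q => Submodule.fg_range _

end Colimit

instance isClosedUnderColimitsOfShape (J : Type w) [Category.{v} J] [Finite J]
    [∀ i j : J, Finite (i ⟶ j)] : (fp A).IsClosedUnderColimitsOfShape J := by
  constructor
  rintro X ⟨h⟩
  exact finitePresentation_colimit h.isColimit h.prop_diag_obj

instance : HasFiniteColimits (FP A) :=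
  ⟨fun J _ _ => hasColimitsOfShape_of_closedUnderColimits J (fp A)⟩

instance : PreservesFiniteColimits (fp A).ι :=
  ⟨fun J _ _ => by
    have := createsColimitsOfShapeFullSubcategoryInclusion J (fp A)
    infer_instance⟩

variable (A)

/-- `A` as a finitely presented module. -/
abbrev one : FP A := ⟨ModuleCat.of A A, inferInstance⟩

/-- The free module `A^n` as a finitely presented module. -/
abbrev free (n : ℕ) : FP A := ⟨ModuleCat.of A (Fin n → A), inferInstance⟩

variable {A}

/-- The map `A ⟶ G` corresponding to an element. -/
noncomputable abbrev hat {G : FP A} (x : G.obj) : one A ⟶ G :=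
  ObjectProperty.homMk (ModuleCat.ofHom (LinearMap.toSpanSingleton A G.obj x))

/-- Every finitely presented module has a finite free presentation. -/
theorem exists_presentation (G : FP A) :
    ∃ (n m : ℕ) (r : free A m ⟶ free A n) (p : free A n ⟶ G),
      Function.Surjective p.hom.hom ∧ LinearMap.range r.hom.hom = LinearMap.ker p.hom.hom := by
  have := G.property
  obtain ⟨n, p, hp⟩ := Module.Finite.exists_fin' A G.obj
  have : Module.Finite A (LinearMap.ker p) :=
    Module.Finite.of_fg (Module.FinitePresentation.fg_ker p hp)
  obtain ⟨m, r, hr⟩ := Module.Finite.exists_fin' A (LinearMap.ker p)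
  refine ⟨n, m, ObjectProperty.homMk (ModuleCat.ofHom ((LinearMap.ker p).subtype ∘ₗ r)),
    ObjectProperty.homMk (ModuleCat.ofHom p), hp, ?_⟩
  change LinearMap.range ((LinearMap.ker p).subtype ∘ₗ r) = LinearMap.ker p
  rw [LinearMap.range_comp, LinearMap.range_eq_top.2 hr, Submodule.map_top,
    Submodule.range_subtype]

theorem comp_eq_zero_of_range_eq {X Y Z : FP A} {r : X ⟶ Y} {p : Y ⟶ Z}
    (he : LinearMap.range r.hom.hom = LinearMap.ker p.hom.hom) : r ≫ p = 0 := by
  ext x
  have h : r.hom.hom x ∈ LinearMap.ker p.hom.hom := he ▸ LinearMap.mem_range_self r.hom.hom x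
  exact LinearMap.mem_ker.1 h

/-- An exact sequence `X → Y → Z → 0` is a cokernel in `FP A`. -/
noncomputable def isColimitCokernel {X Y Z : FP A} (r : X ⟶ Y) (p : Y ⟶ Z)
    (hp : Function.Surjective p.hom.hom)
    (he : LinearMap.range r.hom.hom = LinearMap.ker p.hom.hom) :
    IsColimit (CokernelCofork.ofπ p (comp_eq_zero_of_range_eq he)) :=
  CokernelCofork.IsColimit.ofπ p _
    (fun {W} g hg => ObjectProperty.homMk (ModuleCat.ofHom
      ((LinearMap.ker p.hom.hom).liftQ g.hom.hom (he ▸ by
          rintro _ ⟨x, rfl⟩
          exact LinearMap.congr_fun (congrArg (fun t => t.hom.hom) hg) x) ∘ₗ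
        (p.hom.hom.quotKerEquivOfSurjective hp).symm.toLinearMap)))
    (fun {W} g hg => by
      ext x
      have h : (p.hom.hom.quotKerEquivOfSurjective hp).symm (p.hom.hom x) =
          Submodule.Quotient.mk x := by
        rw [LinearEquiv.symm_apply_eq]; rfl
      simpa using congrArg _ h)
    (fun {W} g hg m hm => by
      ext y
      obtain ⟨x, rfl⟩ := hp y
      have h : (p.hom.hom.quotKerEquivOfSurjective hp).symm (p.hom.hom x) =
          Submodule.Quotient.mk x := by
        rw [LinearEquiv.symm_apply_eq]; rfl
      simp only [← hm]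
      simp [h])

end Groth.Agent.FpMod.Basic
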