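import Groth.Agent.FpMod.Basic
import Mathlib.Algebra.Category.ModuleCat.FilteredColimits
import Mathlib.CategoryTheory.Functor.KanExtension.Pointwise
import Mathlib.CategoryTheory.Presentable.Dense
import Mathlib.CategoryTheory.Presentable.StrongGenerator
import Mathlib.CategoryTheory.Presentable.Limits
import Mathlib.CategoryTheory.Comma.CardinalArrow
import Mathlib.CategoryTheory.Comma.StructuredArrow.Small
import Mathlib.CategoryTheory.Limits.Constructions.Filtered
import Mathlib.CategoryTheory.Preadditive.AdditiveFunctor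
import Mathlib.Algebra.Category.ModuleCat.Biproducts

/-!
# Modules as filtered colimits of finitely presented modules; extension of functors
-/

set_option autoImplicit false
universe u v' u'
open CategoryTheory CategoryTheory.Limits Opposite
open Groth.Agent.FpMod.Basic

namespace Groth.Agent.FpMod.Ind

attribute [local instance] Cardinal.fact_isRegular_aleph0

variable (A : Type u) [CommRing A]

/-- `Hom(A, -)` is the forgetful functor. -/
noncomputable def coyonedaOneIso :
    coyoneda.obj (op (ModuleCat.of A A)) ≅ forget (ModuleCat.{u} A) :=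
  NatIso.ofComponents
    (fun M => Equiv.toIso
      { toFun := fun f => f.hom (1 : A)
        invFun := fun x => ModuleCat.ofHom (LinearMap.toSpanSingleton A M x)
        left_inv := fun f => ModuleCat.hom_ext (LinearMap.ext_ring (by simp))
        right_inv := fun x => by simp })
    (fun {M N} f => by ext g; rfl)

instance isFinitelyPresentable_one : IsFinitelyPresentable.{u} (ModuleCat.of A A) := by
  rw [isFinitelyPresentable_iff_preservesFilteredColimits]
  exact ⟨fun J _ _ => preservesColimitsOfShape_of_natIso (coyonedaOneIso A).symm⟩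

/-- The closure of `A` under finite colimits. -/
abbrev gen : ObjectProperty (ModuleCat.{u} A) :=
  (ObjectProperty.singleton (ModuleCat.of A A)).colimitsCardinalClosure Cardinal.aleph0.{u}

theorem singleton_le :
    ObjectProperty.singleton (ModuleCat.of A A) ≤ isCardinalPresentable _ Cardinal.aleph0.{u} := by
  intro X hX
  obtain rfl := (ObjectProperty.singleton_iff _ X).1 hX
  exact isFinitelyPresentable_one A

theorem isStrongGenerator_singleton :
    (ObjectProperty.singleton (ModuleCat.of A A)).IsStrongGenerator := by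
  rw [ObjectProperty.isStrongGenerator_iff]
  refine ⟨fun X Y f g h => ?_, fun X Y i _ h => ?_⟩
  · ext x
    have := h _ ((ObjectProperty.singleton_iff _ _).2 rfl)
      (ModuleCat.ofHom (LinearMap.toSpanSingleton A X x))
    simpa using LinearMap.congr_fun (congrArg ModuleCat.Hom.hom this) (1 : A)
  · have : Epi i := by
      rw [ModuleCat.epi_iff_surjective]
      intro y
      obtain ⟨g, hg⟩ := h _ ((ObjectProperty.singleton_iff _ _).2 rfl)
        (ModuleCat.ofHom (LinearMap.toSpanSingleton A Y y))
      refine ⟨g.hom (1 : A), ?_⟩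
      simpa using LinearMap.congr_fun (congrArg ModuleCat.Hom.hom hg) (1 : A)
    exact isIso_of_mono_of_epi i

theorem fp_eq_gen : fp A = gen A := by
  refine le_antisymm (fun M hM => ?_) ?_
  · have hcl : ∀ (J : Type) [SmallCategory J] [FinCategory J],
        (gen A).IsClosedUnderColimitsOfShape J := fun J _ _ =>
      ObjectProperty.isClosedUnderColimitsOfShape_colimitsCardinalClosure _ _ J
        (by simp only [hasCardinalLT_aleph0_iff]; infer_instance)
    have hfree : ∀ n : ℕ, gen A (ModuleCat.of A (Fin n → A)) := fun n => by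
      have := hcl (Discrete (Fin n))
      have h : gen A (∐ fun _ : Fin n => ModuleCat.of A A) :=
        ObjectProperty.prop_colimit _ _ fun _ =>
          ObjectProperty.le_colimitsCardinalClosure _ _ _
            ((ObjectProperty.singleton_iff _ _).2 rfl)
      exact ObjectProperty.prop_of_iso _
        ((biproduct.isoCoproduct _).symm ≪≫ ModuleCat.biproductIsoPi _) h
    obtain ⟨n, m, r, p, hp, he⟩ := exists_presentation (⟨M, hM⟩ : FP A)
    have := hcl WalkingParallelPair
    have hc := (isColimitMapCoconeCoforkEquiv (fp A).ι _)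
      (isColimitOfPreserves (fp A).ι (isColimitCokernel r p hp he))
    refine ObjectProperty.prop_of_isColimit (P := gen A) hc ?_
    rintro (_ | _)
    · exact hfree m
    · exact hfree n
  · refine ObjectProperty.colimitsCardinalClosure_le _ _ (fun J _ hJ => ?_) ?_
    · rw [hasCardinalLT_aleph0_iff] at hJ
      obtain ⟨_⟩ := (Arrow.finite_iff J).1 hJ
      haveI : ∀ i j : J, Finite (i ⟶ j) := fun i j => inferInstance
      infer_instance
    · intro X hX
      obtain rfl := (ObjectProperty.singleton_iff _ X).1 hX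
      exact inferInstanceAs (Module.FinitePresentation A A)

theorem fp_le_presentable : fp A ≤ isCardinalPresentable _ Cardinal.aleph0.{u} := by
  rw [fp_eq_gen]
  exact ObjectProperty.colimitsCardinalClosure_le_isCardinalPresentable _ (singleton_le A)

instance (G : FP A) : IsFinitelyPresentable.{u} G.obj := fp_le_presentable A _ G.property

instance : (fp A).ι.IsDense := by
  rw [fp_eq_gen]
  exact ObjectProperty.IsStrongGenerator.isDense_colimitsCardinalClosure_ι.{u}
    (isStrongGenerator_singleton A) (singleton_le A)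

instance (X : ModuleCat.{u} A) : IsFiltered (CostructuredArrow (fp A).ι X) := by
  rw [fp_eq_gen]
  infer_instance

instance : ObjectProperty.EssentiallySmall.{u} (fp A) := by
  rw [fp_eq_gen]
  infer_instance

variable {A}

theorem exists_hom {J : Type u} [SmallCategory J] [IsFiltered J] {K : J ⥤ ModuleCat.{u} A}
    {c : Cocone K} (hc : IsColimit c) {G : FP A} (g : G.obj ⟶ c.pt) :
    ∃ (j : J) (h : G.obj ⟶ K.obj j), h ≫ c.ι.app j = g :=
  haveI : IsCardinalFiltered J Cardinal.aleph0.{u} := (isCardinalFiltered_aleph0_iff J).2 inferInstance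
  IsCardinalPresentable.exists_hom_of_isColimit Cardinal.aleph0.{u} hc g

theorem exists_eq {J : Type u} [SmallCategory J] [IsFiltered J] {K : J ⥤ ModuleCat.{u} A}
    {c : Cocone K} (hc : IsColimit c) {G : FP A} {i₁ i₂ : J} (h₁ : G.obj ⟶ K.obj i₁)
    (h₂ : G.obj ⟶ K.obj i₂) (h : h₁ ≫ c.ι.app i₁ = h₂ ≫ c.ι.app i₂) :
    ∃ (j : J) (a : i₁ ⟶ j) (b : i₂ ⟶ j), h₁ ≫ K.map a = h₂ ≫ K.map b :=
  haveI : IsCardinalFiltered J Cardinal.aleph0.{u} := (isCardinalFiltered_aleph0_iff J).2 inferInstance
  IsCardinalPresentable.exists_eq_of_isColimit Cardinal.aleph0.{u} hc h₁ h₂ h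

variable {B : Type u'} [Category.{v'} B]

/-- Functors preserving filtered colimits preserve colimits over `FP / X`. -/
instance preservesColimitsOfShape_costructuredArrow (F₁ : ModuleCat.{u} A ⥤ B)
    [PreservesFilteredColimitsOfSize.{u, u} F₁] (X : ModuleCat.{u} A) :
    PreservesColimitsOfShape (CostructuredArrow (fp A).ι X) F₁ :=
  haveI : IsFiltered (SmallModel.{u} (CostructuredArrow (fp A).ι X)) :=
    IsFiltered.of_equivalence (equivSmallModel.{u} _)
  preservesColimitsOfShape_of_equiv (equivSmallModel.{u} _).symm F₁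

/-- A functor preserving filtered colimits is the pointwise left Kan extension of its restriction
to finitely presented modules. -/
noncomputable def isPointwise (F₁ : ModuleCat.{u} A ⥤ B)
    [PreservesFilteredColimitsOfSize.{u, u} F₁] :
    (Functor.LeftExtension.mk F₁ (𝟙 ((fp A).ι ⋙ F₁))).IsPointwiseLeftKanExtension := fun X =>
  IsColimit.ofIsoColimit (isColimitOfPreserves F₁ ((fp A).ι.denseAt X))
    (Cocone.ext (Iso.refl _) (fun g => by
      change F₁.map (𝟙 _ ≫ g.hom) ≫ 𝟙 _ = 𝟙 _ ≫ F₁.map g.hom
      simp))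

/-- Maps out of `F₁ X` are determined on finitely presented modules. -/
theorem hom_ext (F₁ : ModuleCat.{u} A ⥤ B) [PreservesFilteredColimitsOfSize.{u, u} F₁]
    {X : ModuleCat.{u} A} {T : B} {s t : F₁.obj X ⟶ T}
    (h : ∀ (G : FP A) (g : G.obj ⟶ X), F₁.map g ≫ s = F₁.map g ≫ t) : s = t :=
  (isPointwise F₁ X).hom_ext' fun {G} g => by
    change 𝟙 _ ≫ F₁.map g ≫ s = 𝟙 _ ≫ F₁.map g ≫ t
    rw [h G g]

/-- A compatible family on finitely presented modules gives a map out of `F₁ X`. -/
theorem exists_desc (F₁ : ModuleCat.{u} A ⥤ B) [PreservesFilteredColimitsOfSize.{u, u} F₁]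
    {X : ModuleCat.{u} A} {T : B} (φ : ∀ (G : FP A), (G.obj ⟶ X) → (F₁.obj G.obj ⟶ T))
    (hφ : ∀ {G H : FP A} (f : G ⟶ H) (g : H.obj ⟶ X), φ G (f.hom ≫ g) = F₁.map f.hom ≫ φ H g) :
    ∃ s : F₁.obj X ⟶ T, ∀ (G : FP A) (g : G.obj ⟶ X), F₁.map g ≫ s = φ G g := by
  let c : Cocone (CostructuredArrow.proj (fp A).ι X ⋙ ((fp A).ι ⋙ F₁)) :=
    { pt := T
      ι :=
        { app := fun g => φ g.left g.hom
          naturality := fun g g' f => by
            have := hφ f.left g'.hom
            rw [show f.left.hom ≫ g'.hom = g.hom from CostructuredArrow.w f] at this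
            exact this.symm.trans (Category.comp_id _).symm } }
  refine ⟨(isPointwise F₁ X).desc c, fun G g => ?_⟩
  have := (isPointwise F₁ X).fac c (CostructuredArrow.mk g)
  change (𝟙 _ ≫ F₁.map g) ≫ _ = φ G g at this
  rwa [Category.id_comp] at this

theorem nonempty_iso (F₁ F₂ : ModuleCat.{u} A ⥤ B) [PreservesFilteredColimitsOfSize.{u, u} F₁]
    [PreservesFilteredColimitsOfSize.{u, u} F₂] (e : (fp A).ι ⋙ F₁ ≅ (fp A).ι ⋙ F₂) :
    Nonempty (F₁ ≅ F₂) :=
  haveI : F₁.IsLeftKanExtension (𝟙 ((fp A).ι ⋙ F₁)) := (isPointwise F₁).isLeftKanExtension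
  haveI : F₂.IsLeftKanExtension (𝟙 ((fp A).ι ⋙ F₂)) := (isPointwise F₂).isLeftKanExtension
  ⟨Functor.leftKanExtensionUniqueOfIso F₁ (𝟙 _) e F₂ (𝟙 _)⟩

theorem hasColimitsOfShape_costructuredArrow [HasFilteredColimitsOfSize.{u, u} B]
    (X : ModuleCat.{u} A) : HasColimitsOfShape (CostructuredArrow (fp A).ι X) B :=
  haveI : IsFiltered (SmallModel.{u} (CostructuredArrow (fp A).ι X)) :=
    IsFiltered.of_equivalence (equivSmallModel.{u} _)
  hasColimitsOfShape_of_equivalence (equivSmallModel.{u} _).symm

/-- A pointwise left Kan extension from finitely presented modules preserves filtered colimits. -/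
theorem preserves_of_pointwise {F : FP A ⥤ B} {E : Functor.LeftExtension (fp A).ι F}
    (hE : E.IsPointwiseLeftKanExtension) : PreservesFilteredColimitsOfSize.{u, u} E.right := by
  refine ⟨fun J _ _ => ⟨fun {K} => ⟨fun {c} hc => ?_⟩⟩⟩
  have wd : ∀ (s : Cocone (K ⋙ E.right)) (G : FP A) (i₁ i₂ : J) (h₁ : G.obj ⟶ K.obj i₁)
      (h₂ : G.obj ⟶ K.obj i₂), h₁ ≫ c.ι.app i₁ = h₂ ≫ c.ι.app i₂ →
      E.hom.app G ≫ E.right.map h₁ ≫ s.ι.app i₁ = E.hom.app G ≫ E.right.map h₂ ≫ s.ι.app i₂ := by
    intro s G i₁ i₂ h₁ h₂ h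
    obtain ⟨j, a, b, hab⟩ := exists_eq hc h₁ h₂ h
    have ha := s.w a
    have hb := s.w b
    simp only [Functor.comp_map] at ha hb
    rw [← ha, ← hb, ← Functor.map_comp_assoc, hab, Functor.map_comp_assoc]
  choose j h hh using fun g : CostructuredArrow (fp A).ι c.pt =>
    exists_hom hc (G := g.left) g.hom
  let t (s : Cocone (K ⋙ E.right)) : Cocone (CostructuredArrow.proj (fp A).ι c.pt ⋙ F) :=
    { pt := s.pt
      ι :=
        { app := fun g => E.hom.app g.left ≫ E.right.map (h g) ≫ s.ι.app (j g)
          naturality := fun g g' f => by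
            have hn : F.map f.left ≫ E.hom.app g'.left =
                E.hom.app g.left ≫ E.right.map f.left.hom := E.hom.naturality f.left
            refine Eq.trans ?_ (Category.comp_id _).symm
            change F.map f.left ≫ E.hom.app g'.left ≫ _ ≫ _ = E.hom.app g.left ≫ _ ≫ _
            refine (Category.assoc _ _ _).symm.trans ((congrArg (· ≫ _) hn).trans ?_)
            refine (Category.assoc _ _ _).trans ?_
            refine Eq.trans ?_ (wd s g.left _ _ (f.left.hom ≫ h g') (h g) (by
              rw [hh g, Category.assoc, hh g']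
              exact CostructuredArrow.w f))
            exact congrArg (E.hom.app g.left ≫ ·) (by rw [E.right.map_comp, Category.assoc]) } }
  refine ⟨{ desc := fun s => (hE c.pt).desc (t s), fac := fun s i => ?_, uniq := fun s m hm => ?_ }⟩
  · refine (hE (K.obj i)).hom_ext' fun {G} g => ?_
    have := (hE c.pt).fac (t s) (CostructuredArrow.mk (g ≫ c.ι.app i))
    change (E.hom.app G ≫ E.right.map (g ≫ c.ι.app i)) ≫ _ = _ at this
    refine Eq.trans ?_ (wd s G _ i (h (CostructuredArrow.mk (g ≫ c.ι.app i))) g (hh _))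
    refine Eq.trans ?_ this
    refine Eq.trans ?_ (Category.assoc _ _ _).symm
    exact congrArg (E.hom.app G ≫ ·) ((Category.assoc _ _ _).symm.trans
      (congrArg (· ≫ _) (E.right.map_comp g (c.ι.app i)).symm))
  · refine (hE c.pt).hom_ext fun g => ?_
    rw [(hE c.pt).fac]
    change (E.hom.app g.left ≫ E.right.map g.hom) ≫ m = E.hom.app g.left ≫ _ ≫ _
    rw [Category.assoc, ← hm (j g)]
    refine congrArg (E.hom.app g.left ≫ ·) ?_
    change _ = E.right.map (h g) ≫ E.right.map (c.ι.app (j g)) ≫ m
    rw [← Category.assoc, ← E.right.map_comp, hh g]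

section Additive

open CoproductsFromFiniteFiltered

variable [Preadditive B] (F₁ : ModuleCat.{u} A ⥤ B) [PreservesFilteredColimitsOfSize.{u, u} F₁]

/-- Two maps from a finitely presented module to `Y` factor through a common one. -/
theorem exists_common {G : FP A} {Y : ModuleCat.{u} A} (a b : G.obj ⟶ Y) :
    ∃ (H : FP A) (q : H.obj ⟶ Y) (a' b' : G ⟶ H), a'.hom ≫ q = a ∧ b'.hom ≫ q = b := by
  let x : CostructuredArrow (fp A).ι Y := CostructuredArrow.mk (Y := G) a
  let y : CostructuredArrow (fp A).ι Y := CostructuredArrow.mk (Y := G) b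
  exact ⟨(IsFiltered.max x y).left, (IsFiltered.max x y).hom, (IsFiltered.leftToMax x y).left,
    (IsFiltered.rightToMax x y).left, CostructuredArrow.w (IsFiltered.leftToMax x y),
    CostructuredArrow.w (IsFiltered.rightToMax x y)⟩

theorem additive [((fp A).ι ⋙ F₁).Additive] : F₁.Additive := by
  refine ⟨fun {X Y f g} => hom_ext F₁ fun G h => ?_⟩
  obtain ⟨H, q, a, b, ha, hb⟩ := exists_common (h ≫ f) (h ≫ g)
  have hadd : F₁.map (a.hom + b.hom) = F₁.map a.hom + F₁.map b.hom :=
    ((fp A).ι ⋙ F₁).map_add (f := a) (g := b)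
  rw [Preadditive.comp_add, ← F₁.map_comp, ← F₁.map_comp, ← F₁.map_comp, Preadditive.comp_add,
    ← ha, ← hb, ← Preadditive.add_comp, F₁.map_comp, F₁.map_comp, F₁.map_comp, hadd,
    Preadditive.add_comp]

theorem preservesCoproducts [F₁.Additive] (J : Type u) :
    PreservesColimitsOfShape (Discrete J) F₁ := by
  refine ⟨fun {K} => ?_⟩
  suffices PreservesColimit (Discrete.functor (K.obj ∘ Discrete.mk)) F₁ from
    preservesColimit_of_iso_diagram F₁ Discrete.natIsoFunctor.symm
  let f : J → ModuleCat.{u} A := K.obj ∘ Discrete.mk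
  refine preservesColimit_of_preserves_colimit_cocone (coproductIsCoproduct f) ?_
  have hS : ∀ S : Finset (Discrete J), IsColimit
      (F₁.mapCocone (colimit.cocone (Discrete.functor fun x : S => (Discrete.functor f).obj x))) :=
    fun S => isColimitOfPreserves F₁ (colimit.isColimit _)
  have hbig := isColimitOfPreserves F₁ (isColimitFiniteSubproductsCocone f)
  have hsum : ∀ (S : Finset (Discrete J)) (x : S),
      F₁.map (Sigma.ι (fun x : S => (Discrete.functor f).obj x) x) ≫
        F₁.map ((finiteSubcoproductsCocone f).ι.app S) = F₁.map (Sigma.ι f x.1.as) := fun S x => by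
    exact (F₁.map_comp _ _).symm.trans
      (congrArg F₁.map (colimit.ι_desc (Cofan.mk _ fun s : S => Sigma.ι f s.1.as) ⟨x⟩))
  refine IsColimit.ofExistsUnique fun s => ?_
  let v : ∀ S : Finset (Discrete J), F₁.obj ((liftToFinsetObj (Discrete.functor f)).obj S) ⟶ s.pt :=
    fun S => (hS S).desc { pt := s.pt, ι := Discrete.natTrans fun x => s.ι.app x.as.1 }
  have hv : ∀ (S : Finset (Discrete J)) (x : S),
      F₁.map (Sigma.ι (fun x : S => (Discrete.functor f).obj x) x) ≫ v S = s.ι.app x.1 :=
    fun S x => (hS S).fac _ ⟨x⟩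
  let c : Cocone (liftToFinsetObj (Discrete.functor f) ⋙ F₁) :=
    { pt := s.pt
      ι :=
        { app := v
          naturality := fun S S' h => by
            refine Eq.trans ?_ (Category.comp_id _).symm
            refine (hS S).hom_ext fun x => ?_
            refine (Category.assoc _ _ _).symm.trans ?_
            refine (congrArg (· ≫ v S') (F₁.map_comp _ _).symm).trans ?_
            refine Eq.trans ?_ (hv S x.as).symm
            refine Eq.trans ?_ (hv S' ⟨x.as.1, h.down.down x.as.2⟩)
            refine congrArg (· ≫ v S') (congrArg F₁.map ?_)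
            exact colimit.ι_desc (Cofan.mk _ fun y : S => Sigma.ι
              (fun x : S' => (Discrete.functor f).obj x) ⟨y.1, h.down.down y.2⟩) x } }
  refine ⟨hbig.desc c, fun j => ?_, fun m hm => hbig.hom_ext fun S => (hS S).hom_ext fun x => ?_⟩
  · have h := congrArg (F₁.map (Sigma.ι _ (⟨j, by simp⟩ : ({j} : Finset (Discrete J)))) ≫ ·)
      (hbig.fac c {j})
    refine Eq.trans ?_ (h.trans (hv {j} ⟨j, by simp⟩))
    refine Eq.trans ?_ (Category.assoc _ _ _)
    exact congrArg (· ≫ hbig.desc c) (hsum {j} ⟨j, by simp⟩).symm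
  · rw [hbig.fac]
    refine Eq.trans ?_ (hv S x.as).symm
    refine Eq.trans (Category.assoc _ _ _).symm ?_
    refine Eq.trans (congrArg (· ≫ m) (hsum S x.as)) ?_
    exact hm x.as.1

end Additive

end Groth.Agent.FpMod.Ind
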