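import Groth.Agent.FpMod.Basic
import Mathlib.CategoryTheory.Preadditive.AdditiveFunctor
import Mathlib.CategoryTheory.Preadditive.Biproducts
import Mathlib.CategoryTheory.Limits.Preserves.Shapes.Biproducts
import Mathlib.CategoryTheory.Limits.Preserves.Shapes.Kernels
import Mathlib.CategoryTheory.Limits.Preserves.Finite

/-!
# Right exact functors on finitely presented modules

`Hom(F G, T)` is the set of `A`-linear families `G → Hom(F A, T)`.
-/

set_option autoImplicit false
universe u v' u'
open CategoryTheory CategoryTheory.Limits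
open Groth.Agent.FpMod.Basic

namespace Groth.Agent.FpMod.RightExact

variable {A : Type u} [CommRing A]

instance : HasFiniteBiproducts (FP A) := HasFiniteBiproducts.of_hasFiniteCoproducts

instance : HasZeroObject (FP A) := hasZeroObject_of_hasFiniteBiproducts _

instance : HasBinaryBiproducts (FP A) := hasBinaryBiproducts_of_finite_biproducts _

variable (A) in
/-- Multiplication by `a` on `A`. -/
noncomputable abbrev lam (a : A) : one A ⟶ one A :=
  ObjectProperty.homMk (ModuleCat.ofHom (LinearMap.lsmul A A a))

theorem hat_smul {G : FP A} (a : A) (x : G.obj) : hat (a • x) = lam A a ≫ hat x := by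
  ext
  simp

theorem hat_add {G : FP A} (x y : G.obj) : hat (x + y) = hat x + hat y := by
  apply (fp A).ι.map_injective
  rw [Functor.map_add]
  ext
  simp

theorem hat_comp {G H : FP A} (x : G.obj) (f : G ⟶ H) : hat x ≫ f = hat (f.hom.hom x) := by
  ext
  simp

/-- The coordinate maps of `A^n`. -/
noncomputable abbrev proj {n : ℕ} (i : Fin n) : free A n ⟶ one A :=
  ObjectProperty.homMk (ModuleCat.ofHom (LinearMap.proj i))

variable {B : Type u'} [Category.{v'} B] [Preadditive B] [HasFiniteBiproducts B]

theorem additive_of_rightExact (F : FP A ⥤ B) [PreservesFiniteColimits F] : F.Additive := by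
  haveI : HasZeroObject B := hasZeroObject_of_hasFiniteBiproducts _
  haveI : F.PreservesZeroMorphisms :=
    Functor.preservesZeroMorphisms_of_preserves_initial_object (F := F)
  haveI : PreservesBinaryBiproducts F :=
    ⟨fun {_ _} => preservesBinaryBiproduct_of_preservesBinaryCoproduct F⟩
  exact Functor.additive_of_preservesBinaryBiproducts F

variable (F : FP A ⥤ B) [PreservesFiniteColimits F]

omit [HasFiniteBiproducts B] in
theorem free_id [F.Additive] (n : ℕ) :
    ∑ i : Fin n, F.map (proj i) ≫ F.map (hat (G := free A n) (Pi.single i (1 : A))) =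
      𝟙 (F.obj (free A n)) := by
  simp only [← F.map_comp, ← F.map_sum, ← F.map_id]
  congr 1
  apply (fp A).ι.map_injective
  rw [Functor.map_sum, CategoryTheory.Functor.map_id]
  apply ModuleCat.hom_ext
  refine LinearMap.pi_ext fun j x => ?_
  funext l
  rw [ModuleCat.hom_sum, LinearMap.sum_apply]
  erw [Finset.sum_apply]
  rw [Finset.sum_eq_single j]
  · rcases eq_or_ne l j with rfl | h <;> simp [*]
  · intro i _ hi
    simp [hi]
  · simp

omit [HasFiniteBiproducts B] in
theorem epi_map_of_exact [F.Additive] {X Y Z : FP A} (r : X ⟶ Y) (p : Y ⟶ Z)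
    (hp : Function.Surjective p.hom.hom)
    (he : LinearMap.range r.hom.hom = LinearMap.ker p.hom.hom) : Epi (F.map p) :=
  Cofork.IsColimit.epi
    (CokernelCofork.mapIsColimit _ (isColimitCokernel r p hp he) F)

/-- A map out of `F G` is determined by its restrictions along the elements of `G`. -/
theorem hom_ext {G : FP A} {T : B} {s t : F.obj G ⟶ T}
    (h : ∀ x : G.obj, F.map (hat x) ≫ s = F.map (hat x) ≫ t) : s = t := by
  haveI := additive_of_rightExact F
  obtain ⟨n, m, r, p, hp, he⟩ := exists_presentation G
  haveI := epi_map_of_exact F r p hp he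
  rw [← cancel_epi (F.map p), ← Category.id_comp (F.map p ≫ s),
    ← Category.id_comp (F.map p ≫ t), ← free_id F n, Preadditive.sum_comp, Preadditive.sum_comp]
  refine Finset.sum_congr rfl fun i _ => ?_
  have h' := h (p.hom.hom (Pi.single i (1 : A)))
  rw [← hat_comp, F.map_comp, Category.assoc, Category.assoc] at h'
  rw [Category.assoc, Category.assoc]
  exact congrArg (F.map (proj i) ≫ ·) h'

/-- An `A`-linear family indexed by `G` comes from a map out of `F G`. -/
theorem exists_desc {G : FP A} {T : B} (g : G.obj →+ (F.obj (one A) ⟶ T))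
    (hg : ∀ (a : A) (x : G.obj), g (a • x) = F.map (lam A a) ≫ g x) :
    ∃ s : F.obj G ⟶ T, ∀ x : G.obj, F.map (hat x) ≫ s = g x := by
  haveI := additive_of_rightExact F
  obtain ⟨n, m, r, p, hp, he⟩ := exists_presentation G
  let s₀ : F.obj (free A n) ⟶ T :=
    ∑ i : Fin n, F.map (proj i) ≫ g (p.hom.hom (Pi.single i (1 : A)))
  have h₀ : ∀ x : Fin n → A, F.map (hat (G := free A n) x) ≫ s₀ = g (p.hom.hom x) := by
    intro x
    have hx : ∀ i, hat (G := free A n) x ≫ proj i = lam A (x i) := fun i => by
      ext
      simp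
    simp only [s₀, Preadditive.comp_sum, ← F.map_comp_assoc, hx, ← hg, ← map_sum, ← map_smul]
    congr 2
    funext i
    simp [Finset.sum_apply, Pi.single_apply]
  have hr : F.map r ≫ s₀ = 0 := hom_ext F fun y => by
    rw [← F.map_comp_assoc, hat_comp, h₀, comp_zero]
    have h : r.hom.hom y ∈ LinearMap.ker p.hom.hom := he ▸ LinearMap.mem_range_self r.hom.hom y
    rw [LinearMap.mem_ker.1 h, map_zero]
  obtain ⟨s, hs⟩ := CokernelCofork.IsColimit.desc'
    (CokernelCofork.mapIsColimit _ (isColimitCokernel r p hp he) F) s₀ hr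
  refine ⟨s, fun z => ?_⟩
  obtain ⟨x, rfl⟩ := hp z
  rw [← hat_comp (G := free A n) (x := x) (f := p), F.map_comp]
  exact (Category.assoc _ _ _).trans ((congrArg (F.map (hat (G := free A n) x) ≫ ·) hs).trans (h₀ x))

end Groth.Agent.FpMod.RightExact
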